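import Groth.Agent.Fano.K459.FormAlg

/-!
# The matrix form of the condition `Cond` for binary forms

* `cMat c N`: the matrix of the coefficients of the products of `N` of the binary forms with coefficients `c`.
* `cond_iff`: `Cond (bf c) d N` iff this matrix has a right inverse.
* `exists_det`: openness.
-/

set_option autoImplicit false
universe u
open CategoryTheory CategoryTheory.Limits AlgebraicGeometry TopologicalSpace Opposite

namespace K459.FormMat

open K387.FormProj K459.FormMap MvPolynomial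

variable {A : Type u} [CommRing A] {n d : ℕ}

/-- The exponent of `X_0 ^ (e - b) X_1 ^ b`. -/
noncomputable def ex (e : ℕ) (b : Fin (e + 1)) : Fin 2 →₀ ℕ :=
  Finsupp.single 0 (e - (b : ℕ)) + Finsupp.single 1 (b : ℕ)

theorem mono_eq (e : ℕ) (b : Fin (e + 1)) :
    (X 0 ^ (e - (b : ℕ)) * X 1 ^ (b : ℕ) : MvPolynomial (Fin 2) A) = monomial (ex e b) 1 := by
  rw [X_pow_eq_monomial, X_pow_eq_monomial, monomial_mul, mul_one]
  rfl

theorem degree_ex (e : ℕ) (b : Fin (e + 1)) : (ex e b).degree = e := by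
  rw [ex, map_add, Finsupp.degree_single, Finsupp.degree_single]
  omega

theorem ex_injective (e : ℕ) : Function.Injective (ex e) := by
  intro a b h
  have := congrArg (fun q : Fin 2 →₀ ℕ => q 1) h
  simpa [ex, Fin.ext_iff] using this

theorem eq_ex {e : ℕ} {s : Fin 2 →₀ ℕ} (hs : s.degree = e) : ∃ b, s = ex e b := by
  have h2 : s 0 + s 1 = e := by
    rw [← hs, Finsupp.degree_eq_sum, Fin.sum_univ_two]
  refine ⟨⟨s 1, by omega⟩, ?_⟩
  ext i
  fin_cases i
  · simp [ex]
    omega
  · simp [ex]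

theorem ext_coeff {e : ℕ} {P Q : MvPolynomial (Fin 2) A} (hP : P ∈ CohB1.polyGrading 1 A e)
    (hQ : Q ∈ CohB1.polyGrading 1 A e) (h : ∀ b, P.coeff (ex e b) = Q.coeff (ex e b)) : P = Q := by
  ext s
  by_cases hs : s.degree = e
  · obtain ⟨b, rfl⟩ := eq_ex hs
    exact h b
  · rw [((mem_homogeneousSubmodule _ _).mp hP).coeff_eq_zero hs,
      ((mem_homogeneousSubmodule _ _).mp hQ).coeff_eq_zero hs]

/-- The matrix of the coefficients of the products of `N` of the binary forms with coefficients `c`. -/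
noncomputable def cMat (c : Fin (d + 1) → Fin (n + 1) → A) (N : ℕ) :
    Matrix (Fin (N * d + 1)) (Fin N → Fin (n + 1)) A :=
  Matrix.of fun b a => (∏ i, bf c (a i)).coeff (ex (N * d) b)

theorem prod_mem_pow (F : Fin (n + 1) → MvPolynomial (Fin 2) A) {N : ℕ} (a : Fin N → Fin (n + 1)) :
    ∏ i, F (a i) ∈ (Submodule.span A (Set.range F)) ^ N := by
  rw [← map_aeval (m := 1) F N]
  refine ⟨∏ i, X (a i), ?_, ?_⟩
  · have h := IsHomogeneous.prod (R := A) (Finset.univ : Finset (Fin N)) (fun i => X (a i)) (fun _ => 1)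
      (fun i _ => isHomogeneous_X A (a i))
    simpa using h
  · change aeval F (∏ i, X (a i)) = _
    rw [map_prod]
    simp

theorem prod_mem (c : Fin (d + 1) → Fin (n + 1) → A) {N : ℕ} (a : Fin N → Fin (n + 1)) :
    ∏ i, bf c (a i) ∈ CohB1.polyGrading 1 A (N * d) := by
  have h := IsHomogeneous.prod (R := A) (Finset.univ : Finset (Fin N)) (fun i => bf c (a i)) (fun _ => d)
      (fun i _ => (mem_homogeneousSubmodule _ _).mp (bf_mem c (a i)))
  simpa using h

theorem pow_le_span (F : Fin (n + 1) → MvPolynomial (Fin 2) A) (N : ℕ) :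
    (Submodule.span A (Set.range F)) ^ N ≤
      Submodule.span A (Set.range fun a : Fin N → Fin (n + 1) => ∏ i, F (a i)) := by
  rw [Submodule.span_pow, Submodule.span_le]
  intro x hx
  rw [Set.mem_pow] at hx
  obtain ⟨g, rfl⟩ := hx
  choose a ha using fun i => (g i).2
  refine Submodule.subset_span ⟨a, ?_⟩
  simp only
  rw [List.prod_ofFn]
  exact Finset.prod_congr rfl fun i _ => ha i

theorem cond_of_matrix {c : Fin (d + 1) → Fin (n + 1) → A} {N : ℕ}
    (h : ∃ b : Matrix (Fin N → Fin (n + 1)) (Fin (N * d + 1)) A, cMat c N * b = 1) :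
    Cond (bf c) d N := by
  obtain ⟨b, hb⟩ := h
  refine (le_span_mono (A := A) (d := N * d)).trans ?_
  rw [Submodule.span_le]
  rintro _ ⟨β', rfl⟩
  have h1 : (X 0 ^ (N * d - (β' : ℕ)) * X 1 ^ (β' : ℕ) : MvPolynomial (Fin 2) A) =
      ∑ a, b a β' • ∏ i, bf c (a i) := by
    refine ext_coeff (e := N * d) ?_ (Submodule.sum_mem _ fun a _ => Submodule.smul_mem _ _ (prod_mem c a))
      fun β => ?_
    · rw [mono_eq]
      exact isHomogeneous_monomial _ (degree_ex _ _)
    · rw [mono_eq, coeff_monomial, coeff_sum]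
      have h2 := congrFun (congrFun hb β) β'
      rw [Matrix.mul_apply, Matrix.one_apply] at h2
      rw [if_congr ((ex_injective (N * d)).eq_iff (a := β') (b := β)) rfl rfl]
      rw [if_congr (eq_comm (a := β') (b := β)) rfl rfl, ← h2]
      refine Finset.sum_congr rfl fun a _ => ?_
      rw [coeff_smul, smul_eq_mul, mul_comm]
      rfl
  change (X 0 ^ (N * d - (β' : ℕ)) * X 1 ^ (β' : ℕ) : MvPolynomial (Fin 2) A) ∈
    (Submodule.span A (Set.range (bf c))) ^ N
  rw [h1]
  exact Submodule.sum_mem _ fun a _ => Submodule.smul_mem _ _ (prod_mem_pow (bf c) a)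

theorem matrix_of_cond {c : Fin (d + 1) → Fin (n + 1) → A} {N : ℕ} (h : Cond (bf c) d N) :
    ∃ b : Matrix (Fin N → Fin (n + 1)) (Fin (N * d + 1)) A, cMat c N * b = 1 := by
  have h1 : ∀ β' : Fin (N * d + 1), ∃ b : (Fin N → Fin (n + 1)) → A,
      ∑ a, b a • ∏ i, bf c (a i) = (monomial (ex (N * d) β') 1 : MvPolynomial (Fin 2) A) := by
    intro β'
    rw [← Submodule.mem_span_range_iff_exists_fun]
    refine pow_le_span (bf c) N (h ?_)
    exact isHomogeneous_monomial _ (degree_ex _ _)
  choose b hb using h1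
  refine ⟨Matrix.of fun a β' => b β' a, ?_⟩
  ext β β'
  rw [Matrix.mul_apply, Matrix.one_apply]
  have h2 := congrArg (coeff (ex (N * d) β)) (hb β')
  rw [coeff_monomial, coeff_sum] at h2
  rw [if_congr ((ex_injective (N * d)).eq_iff (a := β') (b := β)) rfl rfl] at h2
  rw [if_congr (eq_comm (a := β) (b := β')) rfl rfl, ← h2]
  refine Finset.sum_congr rfl fun a _ => ?_
  rw [coeff_smul, smul_eq_mul, mul_comm]
  rfl

theorem cMat_map {B : Type u} [CommRing B] (π : A →+* B) (c : Fin (d + 1) → Fin (n + 1) → A) (N : ℕ) :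
    (cMat c N).map π = cMat (fun m i => π (c m i)) N := by
  ext β a
  rw [Matrix.map_apply]
  change π ((∏ i, bf c (a i)).coeff (ex (N * d) β)) = (∏ i, bf (fun m i => π (c m i)) (a i)).coeff (ex (N * d) β)
  rw [← coeff_map, map_prod]
  congr 1
  refine Finset.prod_congr rfl fun i _ => ?_
  simp [bf, map_sum]

/-- Right inverses are preserved by the localization at a determinant. -/
theorem exists_right_inverse {ι κ : Type*} [Fintype ι] [DecidableEq ι] [Fintype κ] {B : Type u} [CommRing B]
    (π : A →+* B) (M : Matrix ι κ A) (b₀ : Matrix κ ι A) (h : IsUnit (π (M * b₀).det)) :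
    ∃ b : Matrix κ ι B, M.map π * b = 1 := by
  have h1 : IsUnit (((M * b₀).map π).det) := by
    have e : ((M * b₀).map π).det = π (M * b₀).det := (RingHom.map_det π (M * b₀)).symm
    rw [e]
    exact h
  refine ⟨b₀.map π * ((M * b₀).map π)⁻¹, ?_⟩
  rw [← Matrix.mul_assoc, ← Matrix.map_mul, Matrix.mul_nonsing_inv _ h1]

end K459.FormMat
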