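import Groth.Agent.Fano.K459.EmbDef
import Groth.Agent.Fano.K459.FormMat
import Groth.Agent.Fano.K387.RatFam

/-!
# The tautological family of embedded parametrised rational curves

* `exists_cond_of_isPar`: embedded curves satisfy `Cond` for some `N ≥ 1`.
* `isClosedImmersion_of_cond`: conversely.
* `exists_poly_emb`: embedded curves form an open subset of the curves on `V_+(f)`, and their classes in the Hilbert
  scheme depend continuously on the coefficients.
-/

set_option autoImplicit false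
universe u
open CategoryTheory CategoryTheory.Limits AlgebraicGeometry TopologicalSpace Opposite

namespace K459.Emb

open Groth.Agent.Fano.K714.Rat K387.FormProj K387.RatNormal K387.RatFam K390.PnSec
open Groth.Agent.Lefpen.H872.RelCI Groth.Agent.Lefpen.H872.RelBase Groth.Agent.CohqB.ProjBC
open K459.FormMap K459.FormAlg K459.FormMat

attribute [local instance] MvPolynomial.gradedAlgebra

section field

variable {k : Type u} [Field k] {d : ℕ} (f : LefPen.Form 4 k 3)

theorem comp_toSpec {c : Fin (d + 1) → Fin 5 → k} {i : CohB1.ProjSpace 1 k ⟶ Xf f} (hi : IsPar f d c i) :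
    (i ≫ emb f) ≫ CohB1.ProjSpace.toSpec 4 k = CohB1.ProjSpace.toSpec 1 k := by
  rw [Category.assoc]
  exact hi.1

theorem givenBy {c : Fin (d + 1) → Fin 5 → k} {i : CohB1.ProjSpace 1 k ⟶ Xf f} (hi : IsPar f d c i) :
    GivenBy (i ≫ emb f) (Twist.twistProjSpace 1 k (d : ℤ))
      (fun j => gl (⟨bf (n := 4) c j, bf_mem (n := 4) c j⟩ : CohB1.polyGrading 1 k d)) := hi.2

/-- Embedded curves satisfy `Cond`. -/
theorem exists_cond_of_isPar (hd : 1 ≤ d) {c : Fin (d + 1) → Fin 5 → k} {i : CohB1.ProjSpace 1 k ⟶ Xf f}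
    (hi : IsPar f d c i) [IsClosedImmersion i] : ∃ N, 1 ≤ N ∧ Cond (bf (n := 4) c) d N :=
  exists_cond (hd := hd) (hF := bf_mem (n := 4) c) (hr := comp_toSpec f hi) (h := givenBy f hi)

/-- Parametrised curves satisfying `Cond` are embedded. -/
theorem isClosedImmersion_of_cond (hd : 1 ≤ d) {c : Fin (d + 1) → Fin 5 → k}
    {i : CohB1.ProjSpace 1 k ⟶ Xf f} (hi : IsPar f d c i) {N : ℕ} (hN : 1 ≤ N)
    (hC : Cond (bf (n := 4) c) d N) : IsClosedImmersion i := by
  have h1 : IsClosedImmersion (i ≫ emb f) :=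
    K459.FormMap.isClosedImmersion hd (bf_mem (n := 4) c) (comp_toSpec f hi) (givenBy f hi) hN hC
  exact IsClosedImmersion.of_comp i (emb f)

/-- The parametrisation is determined by the coefficients. -/
theorem isPar_unique {c : Fin (d + 1) → Fin 5 → k} {i i' : CohB1.ProjSpace 1 k ⟶ Xf f}
    (hi : IsPar f d c i) (hi' : IsPar f d c i') : i = i' := by
  rw [← cancel_mono (emb f)]
  exact hi.2.unique hi'.2 ((comp_toSpec f hi).trans (comp_toSpec f hi').symm)

end field

section rel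

variable {k : Type u} [Field k] {R : Type u} [CommRing R] (σ : k →+* R) {d : ℕ} (hd : 1 ≤ d) (f : LefPen.Form 4 k 3)
  {c : Fin (d + 1) → Fin 5 → R}
  {r : CohB1.ProjSpace 1 R ⟶ CohB1.ProjSpace 4 R}
  (hr : r ≫ CohB1.ProjSpace.toSpec 4 R = CohB1.ProjSpace.toSpec 1 R)
  (h : GivenBy r (Twist.twistProjSpace 1 R (d : ℤ))
      (fun j => gl (⟨bf (n := 4) c j, bf_mem (n := 4) c j⟩ : CohB1.polyGrading 1 R d)))

include hd hr h in
theorem exists_lift_family
    (h0 : MvPolynomial.aeval (R := R) (bf (n := 4) c) (MvPolynomial.map σ f.1) = 0) :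
    ∃ j : CohB1.ProjSpace 1 R ⟶ Xf f, j ≫ emb f = r ≫ pmap σ 4 := by
  refine exists_lift f _ fun i => ?_
  have h1 := appLE_dehom σ (r := 4) (show RForm 4 k 3 from f) i
  have h2 := app_eq_zero hd (bf_mem (n := 4) c) hr h (mapForm σ (show RForm 4 k 3 from f)) h0 i
  have key : ∀ (U : (CohB1.ProjSpace 4 k).Opens) (W : (CohB1.ProjSpace 4 R).Opens)
      (hW : pmap σ 4 ⁻¹ᵁ U = W) (x : Γ(CohB1.ProjSpace 4 k, U)),
      r.app W ((pmap σ 4).appLE U W hW.ge x) = 0 →
        (r ≫ pmap σ 4).app U x = 0 := by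
    rintro U _ rfl x hx
    refine Eq.trans ?_ hx
    rw [← Scheme.Hom.app_eq_appLE, Scheme.Hom.comp_app]
    rfl
  refine key (LefPen.chart 4 k i) (rchart 4 R i) (preimage_chart σ i) (LefPen.dehom f i) ?_
  refine (congrArg (r.app (rchart 4 R i)) h1).trans h2

include hr in
theorem j_comp' {j : CohB1.ProjSpace 1 R ⟶ Xf f} (hj : j ≫ emb f = r ≫ pmap σ 4) :
    j ≫ ps f = CohB1.ProjSpace.toSpec 1 R ≫ Spec.map (CommRingCat.ofHom σ) := by
  have h1 : j ≫ ps f = (j ≫ emb f) ≫ CohB1.ProjSpace.toSpec 4 k := (Category.assoc _ _ _).symm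
  rw [h1, hj, Category.assoc, pmap_toSpec, ← Category.assoc, hr]

include hr in
theorem isClosedImmersion_lift' [IsClosedImmersion r] {j : CohB1.ProjSpace 1 R ⟶ Xf f}
    (hj : j ≫ emb f = r ≫ pmap σ 4)
    (hjw : j ≫ ps f = CohB1.ProjSpace.toSpec 1 R ≫ Spec.map (CommRingCat.ofHom σ)) :
    IsClosedImmersion (pullback.lift j (CohB1.ProjSpace.toSpec 1 R) hjw) := by
  have hw : (pullback.fst (ps f) (Spec.map (CommRingCat.ofHom σ)) ≫ emb f) ≫ CohB1.ProjSpace.toSpec 4 k =
      pullback.snd (ps f) (Spec.map (CommRingCat.ofHom σ)) ≫ Spec.map (CommRingCat.ofHom σ) :=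
    (Category.assoc _ _ _).trans pullback.condition
  let g := (isPullback_pmap σ 4).lift (pullback.fst (ps f) (Spec.map (CommRingCat.ofHom σ)) ≫ emb f)
    (pullback.snd (ps f) (Spec.map (CommRingCat.ofHom σ))) hw
  have hg1 : g ≫ pmap σ 4 = pullback.fst (ps f) (Spec.map (CommRingCat.ofHom σ)) ≫ emb f :=
    (isPullback_pmap σ 4).lift_fst _ _ _
  have hg2 : g ≫ CohB1.ProjSpace.toSpec 4 R = pullback.snd (ps f) (Spec.map (CommRingCat.ofHom σ)) :=
    (isPullback_pmap σ 4).lift_snd _ _ _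
  have hg : pullback.lift j (CohB1.ProjSpace.toSpec 1 R) hjw ≫ g = r := by
    refine (isPullback_pmap σ 4).hom_ext ?_ ?_
    · rw [Category.assoc, hg1, pullback.lift_fst_assoc, hj]
    · rw [Category.assoc, hg2, pullback.lift_snd, hr]
  have h1 : IsClosedImmersion (pullback.lift j (CohB1.ProjSpace.toSpec 1 R) hjw ≫ g) := by
    rw [hg]
    infer_instance
  have h2 : IsSeparated g := by
    have h3 : IsSeparated (ps f) := by
      have : IsSeparated (CohB1.ProjSpace.toSpec 4 k) := by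
        have := Groth.Agent.Ega3B.ProjProper.isProper_toSpec 4 k
        infer_instance
      infer_instance
    have h4 : IsSeparated (g ≫ CohB1.ProjSpace.toSpec 4 R) := by
      rw [hg2]
      infer_instance
    exact IsSeparated.of_comp g (CohB1.ProjSpace.toSpec 4 R)
  exact IsClosedImmersion.of_comp _ g

include hr h in
theorem isPar_of' {j : CohB1.ProjSpace 1 R ⟶ Xf f} (hj : j ≫ emb f = r ≫ pmap σ 4)
    (μ : R →+* k) (hμ : μ.comp σ = RingHom.id k) :
    IsPar f d (fun m i => μ (c m i)) (pmap μ 1 ≫ j) := by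
  refine ⟨?_, ?_⟩
  · rw [Category.assoc, j_comp' σ f hr hj, ← Category.assoc, pmap_toSpec, Category.assoc, ← Spec.map_comp,
      ← CommRingCat.ofHom_comp, hμ]
    exact (congrArg (CohB1.ProjSpace.toSpec 1 k ≫ ·) (Spec.map_id _)).trans (Category.comp_id _)
  · have h' := K459.FormMap.givenBy_pmap σ μ (bf_mem (n := 4) c) h
    rw [Category.assoc, hj]
    have e : ∀ i, mapF μ ⟨bf (n := 4) c i, bf_mem (n := 4) c i⟩ = bform (fun m i => μ (c m i)) i := by
      intro i
      refine Subtype.ext ?_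
      change MvPolynomial.map μ (bf (n := 4) c i) = _
      simp [bf, bform, map_sum]
    simp only [e] at h'
    exact h'

end rel

section univ

variable {k : Type u} [Field k] {d : ℕ} (f : LefPen.Form 4 k 3) (D : N k d)

/-- The ring of the family. -/
abbrev Rg : Type u := Localization.Away (Ideal.Quotient.mk (I f d) D)

instance : IsNoetherianRing (Rg f D) :=
  IsLocalization.isNoetherianRing (Submonoid.powers (Ideal.Quotient.mk (I f d) D)) _ inferInstance

/-- The canonical map. -/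
noncomputable def πg : N k d →+* Rg f D :=
  (algebraMap (N k d ⧸ I f d) (Rg f D)).comp (Ideal.Quotient.mk (I f d))

/-- The structure map. -/
noncomputable def σg : k →+* Rg f D := (πg f D).comp MvPolynomial.C

/-- The coefficients over `Rg`. -/
noncomputable def cg (m : Fin (d + 1)) (j : Fin 5) : Rg f D := πg f D (MvPolynomial.X (m, j))

theorem aeval_zero' : MvPolynomial.aeval (R := Rg f D) (bf (n := 4) (cg f D)) (MvPolynomial.map (σg f D) f.1) = 0 := by
  have h1 := map_aeval_bf (πg f D) (n := 4) (fun (m : Fin (d + 1)) (j : Fin 5) =>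
    (MvPolynomial.X (m, j) : N k d)) (MvPolynomial.map MvPolynomial.C f.1)
  rw [MvPolynomial.map_map] at h1
  refine h1.symm.trans ?_
  ext s
  rw [MvPolynomial.coeff_map, MvPolynomial.coeff_zero]
  have h2 : (fu f d).coeff s ∈ I f d := Ideal.subset_span ⟨s, rfl⟩
  have h3 : Ideal.Quotient.mk (I f d) ((fu f d).coeff s) = 0 := Ideal.Quotient.eq_zero_iff_mem.mpr h2
  change algebraMap (N k d ⧸ I f d) (Rg f D) (Ideal.Quotient.mk (I f d) ((fu f d).coeff s)) = 0
  rw [h3, map_zero]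

theorem isUnit_D : IsUnit (πg f D D) :=
  IsLocalization.Away.algebraMap_isUnit (Ideal.Quotient.mk (I f d) D)

variable {f D}

theorem exists_point' [Infinite k] {c : Fin (d + 1) → Fin 5 → k}
    (hc : ∀ s t : k, MvPolynomial.eval (cpt c s t) f.1 = 0) (h : evc c D ≠ 0) :
    ∃ μ : Rg f D →+* k, μ.comp (πg f D) = evc c := by
  have h1 : ∀ a ∈ I f d, evc c a = 0 := by
    intro a ha
    have h2 : I f d ≤ RingHom.ker (evc c) := by
      rw [I, Ideal.span_le]
      rintro _ ⟨s, rfl⟩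
      change evc c ((fu f d).coeff s) = 0
      rw [← MvPolynomial.coeff_map, fu, map_aeval_bf (evc c) (n := 4), MvPolynomial.map_map]
      have e1 : (evc c).comp MvPolynomial.C = RingHom.id k := RingHom.ext fun a => by simp [evc]
      have e2 : (fun (m : Fin (d + 1)) (i : Fin 5) => evc c (MvPolynomial.X (m, i))) = c := by
        funext m i
        simp [evc]
      have e3 := aeval_bform f hc
      rw [e1, MvPolynomial.map_id]
      refine (congrArg (MvPolynomial.coeff s) ?_).trans (MvPolynomial.coeff_zero s)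
      refine Eq.trans ?_ e3
      rw [e2]
      rfl
    exact h2 ha
  let q : N k d ⧸ I f d →+* k := Ideal.Quotient.lift (I f d) (evc c) h1
  have hq : IsUnit (q (Ideal.Quotient.mk (I f d) D)) := by
    rw [isUnit_iff_ne_zero]
    exact h
  refine ⟨IsLocalization.Away.lift (Ideal.Quotient.mk (I f d) D) hq, ?_⟩
  refine RingHom.ext fun a => ?_
  exact (IsLocalization.Away.lift_eq (Ideal.Quotient.mk (I f d) D) hq (Ideal.Quotient.mk (I f d) a))

end univ

section cond

variable {k : Type u} [Field k] {d : ℕ}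

/-- The condition `Cond` is open: it holds wherever a polynomial `D` in the coefficients is invertible. -/
theorem exists_open_cond {c₀ : Fin (d + 1) → Fin 5 → k} {M : ℕ} (h : Cond (bf (n := 4) c₀) d M) :
    ∃ D : N k d, evc c₀ D ≠ 0 ∧ ∀ (B : Type u) [CommRing B] (π : N k d →+* B), IsUnit (π D) →
      Cond (bf (n := 4) fun m i => π (MvPolynomial.X (m, i))) d M := by
  obtain ⟨b₀, hb₀⟩ := matrix_of_cond h
  let cU : Fin (d + 1) → Fin 5 → N k d := fun m i => MvPolynomial.X (m, i)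
  refine ⟨(cMat (n := 4) cU M * b₀.map MvPolynomial.C).det, ?_, fun B _ π hπ => ?_⟩
  · have e2 : (fun (m : Fin (d + 1)) (i : Fin 5) => evc c₀ (cU m i)) = c₀ := by
      funext m i
      simp [evc, cU]
    have e3 : (b₀.map MvPolynomial.C).map (evc c₀) = b₀ := by
      ext a b
      simp [evc]
    have e1 : evc c₀ (cMat (n := 4) cU M * b₀.map MvPolynomial.C).det = 1 := by
      refine (RingHom.map_det (evc c₀) _).trans ?_
      have e4 : (evc c₀).mapMatrix (cMat (n := 4) cU M * b₀.map MvPolynomial.C) = 1 := by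
        rw [RingHom.mapMatrix_apply, Matrix.map_mul, e3, cMat_map (evc c₀) cU M, e2, hb₀]
      rw [e4, Matrix.det_one]
    rw [e1]
    exact one_ne_zero
  · refine cond_of_matrix ?_
    have h1 := exists_right_inverse π (cMat (n := 4) cU M) (b₀.map MvPolynomial.C) hπ
    rw [cMat_map π cU M] at h1
    exact h1

end cond

section main

variable {k : Type u} [Field k] [IsAlgClosed k] [CharZero k]

/-- Embedded curves form an open subset of the curves on `V_+(f)`, and their classes depend continuously on the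
coefficients. -/
theorem exists_poly_emb (f : LefPen.Form 4 k 3) (H : Over (Spec (CommRingCat.of k)))
    (Z : FGA.HilbSet (ps f) H)
    (hH : FGA.HilbRepresentedBy (ps f) H Z) {d : ℕ} (hd : 1 ≤ d) (A : H.left.Opens)
    {c₀ : Fin (d + 1) → Fin 5 → k} (hc₀ : c₀ ∈ EmbSet f d) {x₀ : ↥H.left} (hx₀ : IsClass f H Z d c₀ x₀)
    (hA : x₀ ∈ A) :
    ∃ G : MvPolynomial (Fin (d + 1) × Fin 5) k, MvPolynomial.eval (fun q => c₀ q.1 q.2) G ≠ 0 ∧
      ∀ c : Fin (d + 1) → Fin 5 → k, (∀ s t : k, MvPolynomial.eval (cpt c s t) f.1 = 0) →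
        MvPolynomial.eval (fun q => c q.1 q.2) G ≠ 0 → c ∈ EmbSet f d ∧ ∃ x ∈ A, IsClass f H Z d c x := by
  classical
  obtain ⟨hc₀f, i₀, hi₀, hcl₀⟩ := hc₀
  obtain ⟨M, hM, hCM⟩ := exists_cond_of_isPar f hd hi₀
  obtain ⟨D, hD₀, hD⟩ := exists_open_cond hCM
  have hCR : Cond (bf (n := 4) (cg f D)) d M := hD (Rg f D) (πg f D) (isUnit_D f D)
  obtain ⟨r, hr, hgr⟩ := exists_map (bf_mem (n := 4) (cg f D)) hM hCR
  have hrcl : IsClosedImmersion r :=
    K459.FormMap.isClosedImmersion hd (bf_mem (n := 4) (cg f D)) hr hgr hM hCR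
  obtain ⟨j, hj⟩ := exists_lift_family (σg f D) hd f hr hgr (aeval_zero' f D)
  have hjw := j_comp' (σg f D) f hr hj
  have hcl := isClosedImmersion_lift' (σg f D) f hr hj hjw
  have hprop : IsProper (CohB1.ProjSpace.toSpec 1 (Rg f D)) :=
    Groth.Agent.Ega3B.ProjProper.isProper_toSpec 1 (Rg f D)
  have hflat : Flat (CohB1.ProjSpace.toSpec 1 (Rg f D)) := flat_toSpec _
  obtain ⟨g, hg⟩ := Groth.Agent.Fano.K434.HilbFam.exists_hom_of_family (ps f) H Z hH (Rg f D) (σg f D)
    (CohB1.ProjSpace.toSpec 1 (Rg f D)) j hjw hcl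
  -- points
  have hσ : ∀ (c : Fin (d + 1) → Fin 5 → k) (μ : Rg f D →+* k), μ.comp (πg f D) = evc c →
      μ.comp (σg f D) = RingHom.id k := by
    intro c μ hμ
    refine RingHom.ext fun a => ?_
    have := RingHom.congr_fun hμ (MvPolynomial.C a)
    refine this.trans ?_
    simp [evc]
  have hcR : ∀ (c : Fin (d + 1) → Fin 5 → k) (μ : Rg f D →+* k), μ.comp (πg f D) = evc c →
      (fun m i => μ (cg f D m i)) = c := by
    intro c μ hμ
    funext m i
    have := RingHom.congr_fun hμ (MvPolynomial.X (m, i))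
    refine this.trans ?_
    simp [evc]
  have hSp : ∀ (c : Fin (d + 1) → Fin 5 → k) (μ : Rg f D →+* k), μ.comp (πg f D) = evc c →
      Spec.map (CommRingCat.ofHom μ) ≫ Spec.map (CommRingCat.ofHom (σg f D)) =
          𝟙 (Spec (CommRingCat.of k)) := by
    intro c μ hμ
    rw [← Spec.map_comp, ← CommRingCat.ofHom_comp, hσ c μ hμ]
    exact Spec.map_id _
  have hcls : ∀ (c : Fin (d + 1) → Fin 5 → k) (μ : Rg f D →+* k) (hμ : μ.comp (πg f D) = evc c),
      IsPar f d c (pmap μ 1 ≫ j) ∧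
      FGA.hilbPull (ps f) ((Over.homMk (Spec.map (CommRingCat.ofHom μ)) (hSp c μ hμ) :
            pt k ⟶ Over.mk (Spec.map (CommRingCat.ofHom (σg f D)))) ≫ g) Z.1 =
          (pmap μ 1 ≫ j).ker.comap (pullback.fst (ps f) (pt k).hom) := by
    intro c μ hμ
    refine ⟨?_, hg μ (hSp c μ hμ) _ (CohB1.ProjSpace.toSpec 1 k) (pmap μ 1) (isPullback_pmap μ 1)⟩
    have h := isPar_of' (σg f D) f hr hgr hj μ (hσ c μ hμ)
    rw [hcR c μ hμ] at h
    exact h
  -- the point of `c₀`
  obtain ⟨μ₀, hμ₀⟩ := exists_point' (f := f) hc₀f hD₀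
  obtain ⟨hpar₀, hpull₀⟩ := hcls c₀ μ₀ hμ₀
  obtain ⟨h, i, hx, hi, hhi⟩ := hx₀
  have hii : i = pmap μ₀ 1 ≫ j := isPar_unique f hi hpar₀
  have hh : h = (Over.homMk (Spec.map (CommRingCat.ofHom μ₀)) (hSp c₀ μ₀ hμ₀) :
            pt k ⟶ Over.mk (Spec.map (CommRingCat.ofHom (σg f D)))) ≫ g := by
    have hLN : IsLocallyNoetherian (pt k).left :=
      inferInstanceAs (IsLocallyNoetherian (Spec (CommRingCat.of k)))
    refine (hH.2 (pt k) ⟨FGA.hilbPull (ps f) h Z.1, Groth.Agent.Fga.HilbClosed.mem_hilbPull (ps f) h Z⟩).unique rfl ?_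
    exact hpull₀.trans (by rw [← hii]; exact hhi.symm)
  have hx' : x₀ = g.left (Spec.map (CommRingCat.ofHom μ₀) (IsLocalRing.closedPoint k)) := by
    rw [hx, hh]
    rfl
  -- a basic open neighbourhood
  let U : (Spec (CommRingCat.of (Rg f D))).Opens := g.left ⁻¹ᵁ A
  have hU : Spec.map (CommRingCat.ofHom μ₀) (IsLocalRing.closedPoint k) ∈ U := by
    change g.left _ ∈ A
    rw [← hx']
    exact hA
  obtain ⟨_, ⟨_, ⟨G', rfl⟩, rfl⟩, hG'1, hG'2⟩ :=
    PrimeSpectrum.isBasis_basic_opens.exists_subset_of_mem_open hU U.2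
  have hmem : ∀ μ : Rg f D →+* k, Spec.map (CommRingCat.ofHom μ) (IsLocalRing.closedPoint k) ∈
      (PrimeSpectrum.basicOpen G' : Set (PrimeSpectrum (Rg f D))) ↔ μ G' ≠ 0 := by
    intro μ
    change μ G' ∉ IsLocalRing.maximalIdeal k ↔ _
    rw [IsLocalRing.maximalIdeal_eq_bot, Ideal.mem_bot]
  obtain ⟨n, a, ha⟩ := IsLocalization.Away.surj (Ideal.Quotient.mk (I f d) D) G'
  obtain ⟨G₁, rfl⟩ := Ideal.Quotient.mk_surjective a
  have ha' : G' * πg f D D ^ n = πg f D G₁ := ha
  have hval : ∀ (c : Fin (d + 1) → Fin 5 → k) (μ : Rg f D →+* k), μ.comp (πg f D) = evc c →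
      μ G' * evc c D ^ n = evc c G₁ := by
    intro c μ hμ
    rw [← hμ, RingHom.comp_apply, RingHom.comp_apply, ← map_pow, ← map_mul, ha']
  refine ⟨G₁ * D, ?_, fun c hc hG => ?_⟩
  · change evc c₀ (G₁ * D) ≠ 0
    rw [map_mul, ← hval c₀ μ₀ hμ₀]
    exact mul_ne_zero (mul_ne_zero ((hmem μ₀).mp hG'1) (pow_ne_zero _ hD₀)) hD₀
  · change evc c (G₁ * D) ≠ 0 at hG
    rw [map_mul] at hG
    have hΔc : evc c D ≠ 0 := right_ne_zero_of_mul hG
    obtain ⟨μ, hμ⟩ := exists_point' (f := f) hc hΔc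
    obtain ⟨hpar, hpull⟩ := hcls c μ hμ
    have h1 : μ G' ≠ 0 := by
      intro h0
      apply left_ne_zero_of_mul hG
      rw [← hval c μ hμ, h0, zero_mul]
    have hCc : Cond (bf (n := 4) c) d M := by
      have h2 := hD k (evc c) (isUnit_iff_ne_zero.mpr hΔc)
      have e2 : (fun (m : Fin (d + 1)) (i : Fin 5) => evc c (MvPolynomial.X (m, i))) = c := by
        funext m i
        simp [evc]
      rw [e2] at h2
      exact h2
    refine ⟨⟨hc, pmap μ 1 ≫ j, hpar, isClosedImmersion_of_cond f hd hpar hM hCc⟩, ?_⟩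
    refine ⟨g.left (Spec.map (CommRingCat.ofHom μ) (IsLocalRing.closedPoint k)), hG'2 ((hmem μ).mpr h1),
      (Over.homMk (Spec.map (CommRingCat.ofHom μ)) (hSp c μ hμ) :
            pt k ⟶ Over.mk (Spec.map (CommRingCat.ofHom (σg f D)))) ≫ g, pmap μ 1 ≫ j, rfl, hpar, hpull⟩

end main

end K459.Emb
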