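import Groth.Agent.Fano.K459.FormMap

/-!
# Closed immersions given by forms (converse)

* `exists_cond`: if `r : P^m_A ⟶ P^n_A` is a closed immersion over `A` given by the sections `F_j` of `O(d)`, `d ≥ 1`,
  then there is an `N ≥ 1` such that the forms of degree `N d` are linear combinations of the products of `N` of the
  forms `F_j`.
-/

set_option autoImplicit false
universe u
open CategoryTheory CategoryTheory.Limits AlgebraicGeometry TopologicalSpace Opposite

namespace K459.FormAlg

open Groth.Agent.Fdesc.LocGen Groth.Agent.Dix.ProjProper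
open Groth.Agent.VarietyB Groth.Agent.VarietyB.ProjGlue
open Groth.Agent.Ega2 Groth.Agent.Ega2.H295.PnUniq Groth.Agent.Ega2.H295.PnCoord
open K390.PnSec K387.FormProj HomogeneousLocalization K459.FormMap

attribute [local instance] MvPolynomial.gradedAlgebra

section loc

variable {A : Type u} [CommRing A] {m n d : ℕ} (hd : 0 < d) {F : Fin (n + 1) → MvPolynomial (Fin (m + 1)) A}
  (hF : ∀ j, F j ∈ CohB1.polyGrading m A d)
  {r : CohB1.ProjSpace m A ⟶ CohB1.ProjSpace n A}
  (hr : r ≫ CohB1.ProjSpace.toSpec n A = CohB1.ProjSpace.toSpec m A)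
  (h : GivenBy r (Twist.twistProjSpace m A (d : ℤ)) (fun j => gl ⟨F j, hF j⟩))

include h in
theorem cover_of_givenBy : ⨆ j, Proj.basicOpen (CohB1.polyGrading m A) (F j) = ⊤ :=
  Eq.trans (iSup_congr fun j => (preimage_Dp hF h j).symm) (iSup_preimage r)

theorem exists_dpHom_eq (j : Fin (n + 1)) (w : Γ(CohB1.ProjSpace n A, Dp (Fin (n + 1)) A j)) :
    ∃ (L : ℕ), ∃ P ∈ CohB1.polyGrading n A L, dpHom (Fin (n + 1)) A j P = w := by
  obtain ⟨y, rfl⟩ : ∃ y, Proj.awayToSection (CohB1.polyGrading n A) (MvPolynomial.X j) y = w := by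
    have h2 : IsIso (Proj.awayToSection (CohB1.polyGrading n A) (MvPolynomial.X j)) := by
      rw [← Proj.basicOpenIsoAway_hom (CohB1.polyGrading n A) (MvPolynomial.X j)
        (MvPolynomial.isHomogeneous_X A j) one_pos]
      infer_instance
    exact (ConcreteCategory.bijective_of_isIso (Proj.awayToSection (CohB1.polyGrading n A)
      (MvPolynomial.X j))).2 w
  obtain ⟨l, a, ha, rfl⟩ := Away.mk_surjective (CohB1.polyGrading n A) (MvPolynomial.isHomogeneous_X A j) y
  refine ⟨l, a, by simpa using ha, ?_⟩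
  exact (RingHom.congr_fun (ProjStd.hom_std (Fin (n + 1)) A j) a).trans
      (congrArg (Proj.awayToSection (MvPolynomial.homogeneousSubmodule (Fin (n + 1)) A) (MvPolynomial.X j)).hom
        (ProjStd.deh_of_isHomogeneous (Fin (n + 1)) A j (n := l) a ha))

include hd hr h in
/-- Fractions on `D_+(F_j)` come from `P^n`. -/
theorem exists_pow_mul_mem [IsClosedImmersion r] (j : Fin (n + 1)) {l : ℕ} {a : MvPolynomial (Fin (m + 1)) A}
    (ha : a ∈ CohB1.polyGrading m A (l * d)) :
    ∃ L, a * F j ^ L ∈ (Submodule.span A (Set.range F)) ^ (l + L) := by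
  have ha' : a ∈ CohB1.polyGrading m A (l • d) := ha
  let z : Γ(CohB1.ProjSpace m A, Proj.basicOpen (CohB1.polyGrading m A) (F j)) :=
    Proj.awayToSection (CohB1.polyGrading m A) (F j) (Away.mk (CohB1.polyGrading m A) (hF j) l a ha')
  have hsurj : Function.Surjective (r.app (Dp (Fin (n + 1)) A j)) :=
    r.app_surjective _ (Proj.isAffineOpen_basicOpen (CohB1.polyGrading n A) _
      (MvPolynomial.isHomogeneous_X A j) one_pos)
  have hpre := preimage_Dp hF h j
  obtain ⟨w, hw⟩ := hsurj ((CohB1.ProjSpace m A).presheaf.map (homOfLE hpre.le).op z)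
  have hw' : r.appLE (Dp (Fin (n + 1)) A j) (Proj.basicOpen (CohB1.polyGrading m A) (F j)) hpre.ge w = z := by
    have h1 : r.appLE (Dp (Fin (n + 1)) A j) (Proj.basicOpen (CohB1.polyGrading m A) (F j)) hpre.ge w =
      (CohB1.ProjSpace m A).presheaf.map (homOfLE hpre.ge).op (r.app (Dp (Fin (n + 1)) A j) w) := rfl
    rw [h1, hw, ← ConcreteCategory.comp_apply, ← Functor.map_comp, ← op_comp]
    exact congr($(((CohB1.ProjSpace m A).presheaf.map_id _)) z)
  obtain ⟨L, P, hP, rfl⟩ := exists_dpHom_eq j w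
  rw [appLE_dpHom_of_mem hd hF hr h j hP] at hw'
  have hinj : Function.Injective (Proj.awayToSection (CohB1.polyGrading m A) (F j)) := by
    have h2 : IsIso (Proj.awayToSection (CohB1.polyGrading m A) (F j)) := by
      rw [← Proj.basicOpenIsoAway_hom (CohB1.polyGrading m A) (F j) (hF j) hd]
      infer_instance
    exact (ConcreteCategory.bijective_of_isIso (Proj.awayToSection (CohB1.polyGrading m A) (F j))).1
  have h3 := congrArg HomogeneousLocalization.val (hinj hw')
  rw [Away.val_mk, Away.val_mk, Localization.mk_eq_mk_iff, Localization.r_iff_exists] at h3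
  obtain ⟨⟨_, c, rfl⟩, hc⟩ := h3
  dsimp only at hc
  have hFj : ∀ e, F j ^ e ∈ (Submodule.span A (Set.range F)) ^ e := fun e =>
    Submodule.pow_mem_pow _ (Submodule.subset_span (Set.mem_range_self j)) e
  refine ⟨c + L, ?_⟩
  have e1 : a * F j ^ (c + L) = (F j ^ (c + l)) * MvPolynomial.aeval (R := A) F P := by
    rw [pow_add, pow_add, mul_assoc, hc]
    ring
  rw [e1]
  have e2 : l + (c + L) = (c + l) + L := by ring
  rw [e2, pow_add]
  refine Submodule.mul_mem_mul (hFj _) ?_
  rw [← map_aeval]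
  exact Submodule.mem_map_of_mem hP

end loc

section alg

variable {A : Type u} [CommRing A] {m n d : ℕ} {F : Fin (n + 1) → MvPolynomial (Fin (m + 1)) A}
  (hF : ∀ j, F j ∈ CohB1.polyGrading m A d)

include hF in
/-- The ideal generated by forms without common zero contains a power of the irrelevant ideal. -/
theorem exists_pow_le (hcov : ⨆ j, Proj.basicOpen (CohB1.polyGrading m A) (F j) = ⊤) :
    ∃ e : ℕ, (MvPolynomial.idealOfVars (Fin (m + 1)) A) ^ e ≤ Ideal.span (Set.range F) := by
  refine Ideal.exists_pow_le_of_le_radical_of_fg ?_ (MvPolynomial.idealOfVars_fg _ _)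
  rw [Ideal.span_le]
  rintro _ ⟨i, rfl⟩
  by_contra hi
  obtain ⟨p, hp, hpI, hpX⟩ : ∃ p : Ideal (MvPolynomial (Fin (m + 1)) A), p.IsPrime ∧
      Ideal.span (Set.range F) ≤ p ∧ MvPolynomial.X i ∉ p := by
    rw [SetLike.mem_coe, Ideal.radical_eq_sInf, Ideal.mem_sInf] at hi
    push Not at hi
    obtain ⟨p, ⟨h1, h2⟩, h3⟩ := hi
    exact ⟨p, h2, h1, h3⟩
  have hq : (Ideal.homogeneousCore (CohB1.polyGrading m A) p).toIdeal.IsPrime :=
    Ideal.IsPrime.homogeneousCore (𝒜 := CohB1.polyGrading m A) hp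
  have hqp := Ideal.toIdeal_homogeneousCore_le (CohB1.polyGrading m A) p
  have hirr : ¬ HomogeneousIdeal.irrelevant (CohB1.polyGrading m A) ≤
      Ideal.homogeneousCore (CohB1.polyGrading m A) p := by
    intro h
    apply hpX
    apply hqp
    apply h
    exact HomogeneousIdeal.mem_irrelevant_of_mem (CohB1.polyGrading m A) one_pos
      (MvPolynomial.isHomogeneous_X A i : MvPolynomial.X i ∈ CohB1.polyGrading m A 1)
  let x : ProjectiveSpectrum (CohB1.polyGrading m A) :=
    ⟨Ideal.homogeneousCore (CohB1.polyGrading m A) p, hq, hirr⟩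
  have hx : (show Proj (CohB1.polyGrading m A) from x) ∈
      (⨆ j, Proj.basicOpen (CohB1.polyGrading m A) (F j) : (Proj (CohB1.polyGrading m A)).Opens) := by
    rw [hcov]
    trivial
  obtain ⟨j, hj⟩ := Opens.mem_iSup.mp hx
  apply hj
  exact Ideal.mem_homogeneousCore_of_homogeneous_of_mem ⟨d, hF j⟩ (hpI (Ideal.subset_span ⟨j, rfl⟩))

/-- Forms in the ideal generated by the `F_j` are combinations of the `F_j` with coefficients forms. -/
theorem mem_mul_of_mem_span (hF : ∀ j, F j ∈ CohB1.polyGrading m A d) {e : ℕ}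
    {a : MvPolynomial (Fin (m + 1)) A} (ha : a ∈ CohB1.polyGrading m A (e + d))
    (haI : a ∈ Ideal.span (Set.range F)) :
    a ∈ Submodule.span A (Set.range F) * CohB1.polyGrading m A e := by
  rw [Ideal.mem_span_range_iff_exists_fun] at haI
  obtain ⟨c, rfl⟩ := haI
  have h1 : ∑ j, c j * F j = ∑ j, (DirectSum.decompose (CohB1.polyGrading m A) (c j) e :
      MvPolynomial (Fin (m + 1)) A) * F j := by
    conv_lhs => rw [← DirectSum.decompose_of_mem_same (CohB1.polyGrading m A) ha]
    rw [DirectSum.decompose_sum, DFinsupp.finsetSum_apply]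
    push_cast
    refine Finset.sum_congr rfl fun j _ => ?_
    exact DirectSum.coe_decompose_mul_add_of_right_mem (CohB1.polyGrading m A) (hF j)
  rw [h1]
  refine Submodule.sum_mem _ fun j _ => ?_
  rw [mul_comm _ (F j)]
  exact Submodule.mul_mem_mul (Submodule.subset_span (Set.mem_range_self j)) (SetLike.coe_mem _)

theorem polyGrading_le_pow (e : ℕ) : CohB1.polyGrading m A e ≤
    ((MvPolynomial.idealOfVars (Fin (m + 1)) A) ^ e).restrictScalars A := by
  intro a ha
  rw [Submodule.restrictScalars_mem, MvPolynomial.mem_pow_idealOfVars_iff]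
  intro x hx
  have := (MvPolynomial.mem_homogeneousSubmodule _ _).mp ha (MvPolynomial.mem_support_iff.mp hx)
  rw [Finsupp.degree_eq_weight_one]
  exact this.ge

include hF in
theorem exists_le_mul (hd : 0 < d) (hcov : ⨆ j, Proj.basicOpen (CohB1.polyGrading m A) (F j) = ⊤) :
    ∃ l₀ : ℕ, ∀ K, CohB1.polyGrading m A ((l₀ + K) * d) ≤
      (Submodule.span A (Set.range F)) ^ K * CohB1.polyGrading m A (l₀ * d) := by
  obtain ⟨e, he⟩ := exists_pow_le hF hcov
  refine ⟨e, fun K => ?_⟩
  induction K with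
  | zero => rw [pow_zero, one_mul]; exact le_rfl
  | succ K ih =>
    have h1 : CohB1.polyGrading m A ((e + (K + 1)) * d) ≤
        Submodule.span A (Set.range F) * CohB1.polyGrading m A ((e + K) * d) := by
      intro a ha
      refine mem_mul_of_mem_span hF ?_ ?_
      · have e1 : (e + (K + 1)) * d = (e + K) * d + d := by ring
        rw [e1] at ha
        exact ha
      · refine he ?_
        refine Ideal.pow_le_pow_right ?_ (polyGrading_le_pow _ ha)
        calc e ≤ e * d := Nat.le_mul_of_pos_right e hd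
          _ ≤ (e + (K + 1)) * d := Nat.mul_le_mul_right d (by omega)
    refine h1.trans ?_
    rw [pow_succ', mul_assoc]
    exact mul_le_mul_right ih _

/-- Pigeonhole. -/
theorem mul_mem_of_pow_mul_mem {L K c : ℕ} {a : MvPolynomial (Fin (m + 1)) A}
    (hK : (n + 1) * L ≤ K)
    (ha : ∀ j, a * F j ^ L ∈ (Submodule.span A (Set.range F)) ^ (c + L))
    {x : MvPolynomial (Fin (m + 1)) A} (hx : x ∈ (Submodule.span A (Set.range F)) ^ K) :
    x * a ∈ (Submodule.span A (Set.range F)) ^ (c + K) := by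
  rw [← map_aeval] at hx
  obtain ⟨P, hP, rfl⟩ := hx
  change MvPolynomial.aeval (R := A) F P * a ∈ _
  rw [P.as_sum, map_sum, Finset.sum_mul]
  refine Submodule.sum_mem _ fun s hs => ?_
  have h1 : s.degree = K := by
    have := (MvPolynomial.mem_homogeneousSubmodule _ _).mp hP (MvPolynomial.mem_support_iff.mp hs)
    rw [Finsupp.degree_eq_weight_one]
    exact this
  obtain ⟨j, hj⟩ : ∃ j, L ≤ s j := by
    by_contra hcon
    push Not at hcon
    have h2 : ∑ j, s j < ∑ _j : Fin (n + 1), L :=
      Finset.sum_lt_sum_of_nonempty Finset.univ_nonempty fun j _ => hcon j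
    rw [Finset.sum_const, Finset.card_univ, Fintype.card_fin, smul_eq_mul, ← Finsupp.degree_eq_sum, h1] at h2
    omega
  obtain ⟨t, rfl⟩ : ∃ t, s = t + Finsupp.single j L := by
    refine ⟨s - Finsupp.single j L, ?_⟩
    rw [tsub_add_cancel_of_le]
    simpa [Finsupp.single_le_iff] using hj
  have h3 : t.degree + L = K := by
    rw [← h1, map_add, Finsupp.degree_single]
  have h4 : MvPolynomial.monomial (t + Finsupp.single j L) (P.coeff (t + Finsupp.single j L)) =
      MvPolynomial.monomial t (P.coeff (t + Finsupp.single j L)) * MvPolynomial.X j ^ L := by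
    rw [MvPolynomial.X_pow_eq_monomial, MvPolynomial.monomial_mul, mul_one]
  rw [h4, map_mul, map_pow, MvPolynomial.aeval_X, mul_assoc, mul_comm (F j ^ L) a]
  have e1 : c + K = t.degree + (c + L) := by omega
  rw [e1, pow_add]
  refine Submodule.mul_mem_mul ?_ (ha j)
  rw [← map_aeval]
  refine Submodule.mem_map_of_mem ?_
  exact MvPolynomial.isHomogeneous_monomial _ rfl

/-- The ascending property. -/
theorem pow_mul_mem_of_le {l L L' : ℕ} (hL : L ≤ L') {j : Fin (n + 1)} {a : MvPolynomial (Fin (m + 1)) A}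
    (ha : a * F j ^ L ∈ (Submodule.span A (Set.range F)) ^ (l + L)) :
    a * F j ^ L' ∈ (Submodule.span A (Set.range F)) ^ (l + L') := by
  obtain ⟨t, rfl⟩ := Nat.exists_eq_add_of_le hL
  rw [pow_add (F j), ← mul_assoc, ← add_assoc, pow_add _ (l + L) t]
  exact Submodule.mul_mem_mul ha (Submodule.pow_mem_pow _ (Submodule.subset_span (Set.mem_range_self j)) t)

theorem exists_uniform {l : ℕ}
    (h : ∀ (j : Fin (n + 1)), ∀ a ∈ CohB1.polyGrading m A (l * d),
      ∃ L, a * F j ^ L ∈ (Submodule.span A (Set.range F)) ^ (l + L)) :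
    ∃ L, ∀ (j : Fin (n + 1)), ∀ a ∈ CohB1.polyGrading m A (l * d),
      a * F j ^ L ∈ (Submodule.span A (Set.range F)) ^ (l + L) := by
  classical
  obtain ⟨S, hS⟩ := MvPolynomial.homogeneousSubmodule_fg (σ := Fin (m + 1)) (R := A) (l * d)
  have hS' : ∀ a ∈ S, a ∈ CohB1.polyGrading m A (l * d) := fun a ha => by
    have : a ∈ Submodule.span A (S : Set (MvPolynomial (Fin (m + 1)) A)) := Submodule.subset_span ha
    rw [hS] at this
    exact this
  choose! g hg using h
  refine ⟨Finset.univ.sup fun j => S.sup fun a => g j a, fun j a ha => ?_⟩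
  set L := Finset.univ.sup fun j => S.sup fun a => g j a with hLdef
  have key : CohB1.polyGrading m A (l * d) ≤
      Submodule.comap (LinearMap.mulRight A (F j ^ L)) ((Submodule.span A (Set.range F)) ^ (l + L)) := by
    change MvPolynomial.homogeneousSubmodule (Fin (m + 1)) A (l * d) ≤ _
    rw [← hS, Submodule.span_le]
    intro a ha
    change a * F j ^ L ∈ (Submodule.span A (Set.range F)) ^ (l + L)
    refine pow_mul_mem_of_le ?_ (hg j a (hS' a ha))
    have h1 : g j a ≤ S.sup fun a => g j a := Finset.le_sup (f := fun a => g j a) ha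
    exact h1.trans (Finset.le_sup (f := fun j => S.sup fun a => g j a) (Finset.mem_univ j))
  exact key ha

include hF in
theorem exists_cond_alg (hd : 0 < d) (hcov : ⨆ j, Proj.basicOpen (CohB1.polyGrading m A) (F j) = ⊤)
    (h : ∀ (j : Fin (n + 1)) (l : ℕ), ∀ a ∈ CohB1.polyGrading m A (l * d),
      ∃ L, a * F j ^ L ∈ (Submodule.span A (Set.range F)) ^ (l + L)) :
    ∃ N, 1 ≤ N ∧ Cond F d N := by
  obtain ⟨l₀, hl₀⟩ := exists_le_mul hF hd hcov
  obtain ⟨L, hL⟩ := exists_uniform (d := d) (l := l₀) fun j a ha => h j l₀ a ha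
  refine ⟨l₀ + ((n + 1) * L + 1), by omega, ?_⟩
  refine (hl₀ ((n + 1) * L + 1)).trans ?_
  rw [Submodule.mul_le]
  intro x hx a ha
  exact mul_mem_of_pow_mul_mem (by omega) (fun j => hL j a ha) hx

end alg

section main

variable {A : Type u} [CommRing A] {m n d : ℕ} (hd : 0 < d) {F : Fin (n + 1) → MvPolynomial (Fin (m + 1)) A}
  (hF : ∀ j, F j ∈ CohB1.polyGrading m A d)
  {r : CohB1.ProjSpace m A ⟶ CohB1.ProjSpace n A}
  (hr : r ≫ CohB1.ProjSpace.toSpec n A = CohB1.ProjSpace.toSpec m A)
  (h : GivenBy r (Twist.twistProjSpace m A (d : ℤ)) (fun j => gl ⟨F j, hF j⟩))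

include hd hr h in
theorem exists_cond [IsClosedImmersion r] : ∃ N, 1 ≤ N ∧ Cond F d N :=
  exists_cond_alg hF hd (cover_of_givenBy hF h) fun j _ _ ha => exists_pow_mul_mem hd hF hr h j ha

end main

end K459.FormAlg
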