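import Groth.Agent.Fano.K387.FormProj2
import Groth.Agent.Ega3B.ProjAmple

/-!
# Morphisms between projective spaces given by forms without common zeros

For a morphism `r : P^m_A ⟶ P^n_A` over `A` given by the sections `F_j` of `O(d)`:

* `preimage_Dp`: `r⁻¹ D_+(X_j) = D_+(F_j)`; `appLE_ratio`: `X_k / X_j ↦ F_k / F_j`.
* `appLE_mk`: `P / X_j^l ↦ P(F) / F_j^l`.
* `isClosedImmersion`: `r` is a closed immersion if the forms of degree `N d` are linear combinations of the products
  of `N` of the forms `F_j`, for some `N ≥ 1`.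
* `givenBy_pmap`, `app_eq_zero`.
* `exists_map`: existence.
-/

set_option autoImplicit false
universe u
open CategoryTheory CategoryTheory.Limits AlgebraicGeometry TopologicalSpace Opposite

namespace K459.FormMap

open Groth.Agent.Fdesc.LocGen Groth.Agent.Dix.ProjProper
open Groth.Agent.VarietyB Groth.Agent.VarietyB.ProjGlue
open Groth.Agent.Ega2 Groth.Agent.Ega2.H295.PnUniq Groth.Agent.Ega2.H295.PnCoord
open Groth.Agent.Lefpen.H872.RelBase Groth.Agent.Lefpen.H872.RelCI Groth.Agent.CohqB.ProjBC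
open K390.PnSec K387.FormProj HomogeneousLocalization

attribute [local instance] MvPolynomial.gradedAlgebra

section loc

variable {A : Type u} [CommRing A] {m n d : ℕ}

theorem X_pow_mem (j : Fin (m + 1)) (s : ℕ) : (MvPolynomial.X j ^ s : MvPolynomial (Fin (m + 1)) A) ∈
    CohB1.polyGrading m A s := by
  have h := (MvPolynomial.isHomogeneous_X A j).pow s
  rw [one_mul] at h
  exact h

theorem coveredBy (s : ℕ) : Groth.Agent.Ega3B.ProjAmple.CoveredBy (CohB1.polyGrading m A) s := by
  intro x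
  obtain ⟨j, hj⟩ := VeryAmpleAmple.exists_notMem_X (x : ProjectiveSpectrum (CohB1.polyGrading m A))
  refine ⟨⟨MvPolynomial.X j ^ s, X_pow_mem j s⟩, fun h => hj ?_⟩
  exact (x : ProjectiveSpectrum (CohB1.polyGrading m A)).isPrime.mem_of_pow_mem s h

theorem genLocus_gl (G : CohB1.polyGrading m A d) :
    CohB1.genLocus (Twist.twistProjSpace m A (d : ℤ)) (homOf (gl G)) = Proj.basicOpen (CohB1.polyGrading m A) G.1 :=
  Groth.Agent.Ega3B.ProjAmple.genLocus_globalSec (coveredBy d) G

end loc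

section gen

variable {X : Scheme.{u}} {n : ℕ} {R : Type u} [CommRing R] {r : X ⟶ CohB1.ProjSpace n R} {M : X.Modules}
  {s : Fin (n + 1) → Γ(M, ⊤)}

theorem ratio_of_givenBy (h : GivenBy r M s) (i : Fin (n + 1)) {V : X.Opens} (g : Fin (n + 1) → Γ(X, V))
    (hg : ∀ k, res M (le_top : V ≤ ⊤) (s k) = g k • res M (le_top : V ≤ ⊤) (s i)) :
    ∃ e : V ≤ r ⁻¹ᵁ Dp (Fin (n + 1)) R i, ∀ k,
      r.appLE (Dp (Fin (n + 1)) R i) V e (ProjStd.ratio (Fin (n + 1)) R i k) = g k := by
  obtain ⟨τ, hτ⟩ := h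
  refine ratio_of_rel r i g fun k => ?_
  have h1 : ∀ k, τ.inv.app ⊤ (s k) = tsec r k := by
    intro k
    rw [← hτ k]
    exact congr(($(τ.hom_inv_id).app ⊤) (tsec r k))
  have h3 := congrArg (τ.inv.app _) (hg k)
  rw [Scheme.Modules.Hom.app_smul, app_res, app_res, h1, h1] at h3
  exact h3

theorem preimage_le (h : GivenBy r M s) (i : Fin (n + 1)) :
    r ⁻¹ᵁ Dp (Fin (n + 1)) R i ≤ CohB1.genLocus M (homOf (s i)) := by
  obtain ⟨τ, hτ⟩ := h
  rw [le_genLocus_iff, sec_homOf, ← hτ i]
  have h1 := (isGen_res_tsec r i le_rfl).app τ.hom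
  have h2 := app_res τ.hom (le_top : r ⁻¹ᵁ Dp (Fin (n + 1)) R i ≤ ⊤) (tsec r i)
  exact h2 ▸ h1

end gen

section given

variable {A : Type u} [CommRing A] {m n d : ℕ} {F : Fin (n + 1) → MvPolynomial (Fin (m + 1)) A}
  (hF : ∀ j, F j ∈ CohB1.polyGrading m A d)
  {r : CohB1.ProjSpace m A ⟶ CohB1.ProjSpace n A}
  (h : GivenBy r (Twist.twistProjSpace m A (d : ℤ)) (fun j => gl ⟨F j, hF j⟩))

include h in
theorem preimage_ratio (i : Fin (n + 1)) :
    ∃ e : Proj.basicOpen (CohB1.polyGrading m A) (F i) ≤ r ⁻¹ᵁ Dp (Fin (n + 1)) A i, ∀ k,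
      r.appLE (Dp (Fin (n + 1)) A i) (Proj.basicOpen (CohB1.polyGrading m A) (F i)) e
        (ProjStd.ratio (Fin (n + 1)) A i k) = quot ⟨F i, hF i⟩ ⟨F k, hF k⟩ :=
  ratio_of_givenBy h i (V := Proj.basicOpen (CohB1.polyGrading m A) (F i))
    (fun k => quot ⟨F i, hF i⟩ ⟨F k, hF k⟩) (fun k => res_gl ⟨F i, hF i⟩ ⟨F k, hF k⟩)

include h in
theorem preimage_Dp (i : Fin (n + 1)) :
    r ⁻¹ᵁ Dp (Fin (n + 1)) A i = Proj.basicOpen (CohB1.polyGrading m A) (F i) :=
  le_antisymm ((preimage_le h i).trans (genLocus_gl ⟨F i, hF i⟩).le) (preimage_ratio hF h i).1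

include h in
theorem appLE_ratio (i k : Fin (n + 1)) :
      r.appLE (Dp (Fin (n + 1)) A i) (Proj.basicOpen (CohB1.polyGrading m A) (F i)) (preimage_Dp hF h i).ge
        (ProjStd.ratio (Fin (n + 1)) A i k) = quot ⟨F i, hF i⟩ ⟨F k, hF k⟩ :=
  (preimage_ratio hF h i).2 k

end given

section frac

variable {A : Type u} [CommRing A] {m n d : ℕ}

theorem baseHom_basicOpen {e : ℕ} (G : MvPolynomial (Fin (m + 1)) A) (hG : G ∈ CohB1.polyGrading m A e)
    (he : 0 < e) :
    CoordData.baseHom (CohB1.ProjSpace.toSpec m A) (Proj.basicOpen (CohB1.polyGrading m A) G) =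
      (Proj.awayToSection (CohB1.polyGrading m A) G).hom.comp (awayAlg m G) := by
  apply ProjStd.toSpecΓ_map_injective
  refine Eq.trans (ProjStd.toSpecΓ_baseHom A (CohB1.ProjSpace.toSpec m A) _) ?_
  have h1 := ProjStd.ι_toSpecZero (CohB1.polyGrading m A) hG he
  have h2 := congrArg (fun q => q ≫ Spec.map (CommRingCat.ofHom
    (algebraMap A (CohB1.polyGrading m A 0)))) h1
  refine Eq.trans ?_ (h2.trans ?_)
  · exact (Category.assoc _ _ _).symm
  · simp only [Category.assoc, ← Spec.map_comp]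
    rfl

/-- `P ↦ P(F) / G ^ deg P`. -/
noncomputable def frac (F : Fin (n + 1) → MvPolynomial (Fin (m + 1)) A)
    (hF : ∀ j, F j ∈ CohB1.polyGrading m A d) (G : MvPolynomial (Fin (m + 1)) A)
    (hG : G ∈ CohB1.polyGrading m A d) :
    MvPolynomial (Fin (n + 1)) A →+* Away (CohB1.polyGrading m A) G :=
  MvPolynomial.eval₂Hom (awayAlg m G) (fun k => Away.mk (CohB1.polyGrading m A) hG 1 (F k)
    (by rw [one_smul]; exact hF k))

theorem aeval_mem (F : Fin (n + 1) → MvPolynomial (Fin (m + 1)) A)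
    (hF : ∀ j, F j ∈ CohB1.polyGrading m A d) {l : ℕ} {P : MvPolynomial (Fin (n + 1)) A}
    (hP : P ∈ CohB1.polyGrading n A l) :
    MvPolynomial.aeval (R := A) F P ∈ CohB1.polyGrading m A (l • d) := by
  have h := ((MvPolynomial.mem_homogeneousSubmodule _ _).mp hP).aeval F
    (fun j => (MvPolynomial.mem_homogeneousSubmodule _ _).mp (hF j))
  rw [mul_comm] at h
  exact h

theorem frac_apply (F : Fin (n + 1) → MvPolynomial (Fin (m + 1)) A)
    (hF : ∀ j, F j ∈ CohB1.polyGrading m A d) (G : MvPolynomial (Fin (m + 1)) A)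
    (hG : G ∈ CohB1.polyGrading m A d) {l : ℕ} {P : MvPolynomial (Fin (n + 1)) A}
    (hP : P ∈ CohB1.polyGrading n A l)
    (hP' : MvPolynomial.aeval (R := A) F P ∈ CohB1.polyGrading m A (l • d)) :
    frac F hF G hG P = Away.mk (CohB1.polyGrading m A) hG l (MvPolynomial.aeval (R := A) F P) hP' := by
  apply HomogeneousLocalization.val_injective
  rw [Away.val_mk]
  have h1 : ((algebraMap (Away (CohB1.polyGrading m A) G)
      (Localization.Away G)).comp (frac F hF G hG)) =
      MvPolynomial.eval₂Hom ((algebraMap (MvPolynomial (Fin (m + 1)) A)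
        (Localization.Away G)).comp MvPolynomial.C)
        (fun k => Localization.mk 1 (⟨G, Submonoid.mem_powers _⟩ :
          Submonoid.powers G) * algebraMap (MvPolynomial (Fin (m + 1)) A)
          (Localization.Away G) (F k)) := by
    apply MvPolynomial.ringHom_ext
    · intro r
      simp only [frac, RingHom.comp_apply, MvPolynomial.eval₂Hom_C]
      rfl
    · intro k
      simp only [frac, RingHom.comp_apply, MvPolynomial.eval₂Hom_X', HomogeneousLocalization.algebraMap_apply,
        Away.val_mk]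
      rw [← Localization.mk_one_eq_algebraMap, Localization.mk_mul]
      congr 1
      · simp
      · ext; simp
  have h2 := congrArg (fun φ => φ P) h1
  simp only [RingHom.comp_apply, HomogeneousLocalization.algebraMap_apply] at h2
  rw [h2, eval₂Hom_smul_of_isHomogeneous _ _ _ ((MvPolynomial.mem_homogeneousSubmodule _ _).mp hP)]
  have h3 : MvPolynomial.eval₂Hom ((algebraMap (MvPolynomial (Fin (m + 1)) A)
        (Localization.Away G)).comp MvPolynomial.C)
        (fun k => algebraMap (MvPolynomial (Fin (m + 1)) A) (Localization.Away G) (F k)) =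
      (algebraMap (MvPolynomial (Fin (m + 1)) A) (Localization.Away G)).comp
        (MvPolynomial.aeval (R := A) F).toRingHom := by
    apply MvPolynomial.ringHom_ext
    · intro r; simp
    · intro k; simp
  rw [h3, RingHom.comp_apply, ← Localization.mk_one_eq_algebraMap, Localization.mk_pow, Localization.mk_mul]
  congr 1
  · simp
  · ext; simp

end frac

section given

variable {A : Type u} [CommRing A] {m n d : ℕ} (hd : 0 < d) {F : Fin (n + 1) → MvPolynomial (Fin (m + 1)) A}
  (hF : ∀ j, F j ∈ CohB1.polyGrading m A d)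
  {r : CohB1.ProjSpace m A ⟶ CohB1.ProjSpace n A}
  (hr : r ≫ CohB1.ProjSpace.toSpec n A = CohB1.ProjSpace.toSpec m A)
  (h : GivenBy r (Twist.twistProjSpace m A (d : ℤ)) (fun j => gl ⟨F j, hF j⟩))

include hd hr in
theorem appLE_dpHom (j : Fin (n + 1)) (P : MvPolynomial (Fin (n + 1)) A) :
    r.appLE (Dp (Fin (n + 1)) A j) (Proj.basicOpen (CohB1.polyGrading m A) (F j)) (preimage_Dp hF h j).ge
      (dpHom (Fin (n + 1)) A j P) =
      Proj.awayToSection (CohB1.polyGrading m A) (F j) (frac F hF (F j) (hF j) P) := by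
  have key : (r.appLE (Dp (Fin (n + 1)) A j) (Proj.basicOpen (CohB1.polyGrading m A) (F j))
      (preimage_Dp hF h j).ge).hom.comp (dpHom (Fin (n + 1)) A j) =
      (Proj.awayToSection (CohB1.polyGrading m A) (F j)).hom.comp (frac F hF (F j) (hF j)) := by
    apply MvPolynomial.ringHom_ext
    · intro a
      refine (congrArg (r.appLE (Dp (Fin (n + 1)) A j) (Proj.basicOpen (CohB1.polyGrading m A) (F j))
        (preimage_Dp hF h j).ge).hom (dpHom_C j a)).trans ?_
      refine (appLE_baseHom r (ProjStd.toSpec (Fin (n + 1)) A) (preimage_Dp hF h j).ge a).trans ?_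
      have h1 := RingHom.congr_fun (baseHom_basicOpen (F j) (hF j) hd) a
      rw [← hr] at h1
      refine h1.trans ?_
      refine congrArg (Proj.awayToSection (CohB1.polyGrading m A) (F j)).hom
        (?_ : awayAlg m (F j) a = frac F hF (F j) (hF j) (MvPolynomial.C a))
      rw [frac, MvPolynomial.eval₂Hom_C]
    · intro k
      refine (congrArg (r.appLE (Dp (Fin (n + 1)) A j) (Proj.basicOpen (CohB1.polyGrading m A) (F j))
        (preimage_Dp hF h j).ge).hom (dpHom_X j k)).trans ?_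
      refine (appLE_ratio hF h j k).trans ?_
      refine congrArg (Proj.awayToSection (CohB1.polyGrading m A) (F j)).hom
        (?_ : _ = frac F hF (F j) (hF j) (MvPolynomial.X k))
      rw [frac, MvPolynomial.eval₂Hom_X']
  exact RingHom.congr_fun key P

end given

section cond

variable {A : Type u} [CommRing A] {m n d : ℕ}

theorem map_aeval (F : Fin (n + 1) → MvPolynomial (Fin (m + 1)) A) (l : ℕ) :
    Submodule.map (MvPolynomial.aeval (R := A) F).toLinearMap (CohB1.polyGrading n A l) =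
      (Submodule.span A (Set.range F)) ^ l := by
  have h1 : Submodule.map (MvPolynomial.aeval (R := A) F).toLinearMap (CohB1.polyGrading n A 1) =
      Submodule.span A (Set.range F) := by
    change Submodule.map _ (MvPolynomial.homogeneousSubmodule (Fin (n + 1)) A 1) = _
    rw [MvPolynomial.homogeneousSubmodule_one_eq_span_X, Submodule.map_span, ← Set.range_comp]
    congr 1
    refine congrArg Set.range (funext fun j => ?_)
    exact MvPolynomial.aeval_X _ _
  have h2 : CohB1.polyGrading n A l = (CohB1.polyGrading n A 1) ^ l :=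
    (MvPolynomial.homogeneousSubmodule_one_pow A l).symm
  rw [h2, Submodule.map_pow, h1]

/-- The forms of degree `N d` are linear combinations of products of `N` of the forms `F_j`. -/
def Cond (F : Fin (n + 1) → MvPolynomial (Fin (m + 1)) A) (d N : ℕ) : Prop :=
  CohB1.polyGrading m A (N * d) ≤ (Submodule.span A (Set.range F)) ^ N

theorem polyGrading_mul (k l : ℕ) :
    CohB1.polyGrading m A (k * l) = (CohB1.polyGrading m A l) ^ k := by
  change MvPolynomial.homogeneousSubmodule _ _ _ = (MvPolynomial.homogeneousSubmodule _ _ _) ^ k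
  rw [← MvPolynomial.homogeneousSubmodule_one_pow A (k * l),
    ← MvPolynomial.homogeneousSubmodule_one_pow A l, ← pow_mul, mul_comm]

theorem Cond.exists_lift {F : Fin (n + 1) → MvPolynomial (Fin (m + 1)) A} {N : ℕ} (hC : Cond F d N) (l : ℕ)
    {a : MvPolynomial (Fin (m + 1)) A} (ha : a ∈ CohB1.polyGrading m A (l * (N * d))) :
    ∃ P ∈ CohB1.polyGrading n A (l * N), MvPolynomial.aeval (R := A) F P = a := by
  have h1 : a ∈ Submodule.map (MvPolynomial.aeval (R := A) F).toLinearMap (CohB1.polyGrading n A (l * N)) := by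
    rw [map_aeval, mul_comm l N, pow_mul]
    rw [polyGrading_mul] at ha
    exact pow_le_pow_left' hC l ha
  exact h1

end cond

section closed

variable {A : Type u} [CommRing A] {m n d : ℕ} (hd : 0 < d) {F : Fin (n + 1) → MvPolynomial (Fin (m + 1)) A}
  (hF : ∀ j, F j ∈ CohB1.polyGrading m A d)
  {r : CohB1.ProjSpace m A ⟶ CohB1.ProjSpace n A}
  (hr : r ≫ CohB1.ProjSpace.toSpec n A = CohB1.ProjSpace.toSpec m A)
  (h : GivenBy r (Twist.twistProjSpace m A (d : ℤ)) (fun j => gl ⟨F j, hF j⟩))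

include hd hr in
theorem appLE_dpHom_of_mem (j : Fin (n + 1)) {l : ℕ} {P : MvPolynomial (Fin (n + 1)) A}
    (hP : P ∈ CohB1.polyGrading n A l) :
    r.appLE (Dp (Fin (n + 1)) A j) (Proj.basicOpen (CohB1.polyGrading m A) (F j)) (preimage_Dp hF h j).ge
      (dpHom (Fin (n + 1)) A j P) =
      Proj.awayToSection (CohB1.polyGrading m A) (F j) (Away.mk (CohB1.polyGrading m A) (hF j) l
        (MvPolynomial.aeval (R := A) F P) (aeval_mem F hF hP)) :=
  (appLE_dpHom hd hF hr h j P).trans (congrArg (Proj.awayToSection (CohB1.polyGrading m A) (F j)).hom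
    (frac_apply F hF (F j) (hF j) hP (aeval_mem F hF hP)))

include hd hr h in
theorem app_surjective {N : ℕ} (hN : 1 ≤ N) (hC : Cond F d N) (j : Fin (n + 1)) :
    Function.Surjective (r.app (Dp (Fin (n + 1)) A j)) := by
  have hpre := preimage_Dp hF h j
  have h1 : Function.Surjective (r.appLE (Dp (Fin (n + 1)) A j)
      (Proj.basicOpen (CohB1.polyGrading m A) (F j)) hpre.ge) := by
    intro z
    obtain ⟨y, rfl⟩ : ∃ y, Proj.awayToSection (CohB1.polyGrading m A) (F j) y = z := by
      have h2 : IsIso (Proj.awayToSection (CohB1.polyGrading m A) (F j)) := by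
        rw [← Proj.basicOpenIsoAway_hom (CohB1.polyGrading m A) (F j) (hF j) hd]
        infer_instance
      exact (ConcreteCategory.bijective_of_isIso (Proj.awayToSection (CohB1.polyGrading m A) (F j))).2 z
    obtain ⟨l, a, ha, rfl⟩ := Away.mk_surjective (CohB1.polyGrading m A) (hF j) y
    obtain ⟨N, rfl⟩ : ∃ N', N = N' + 1 := ⟨N - 1, by omega⟩
    have ha' : a * F j ^ (l * N) ∈ CohB1.polyGrading m A (l * ((N + 1) * d)) := by
      have h3 : F j ^ (l * N) ∈ CohB1.polyGrading m A ((l * N) • d) := SetLike.pow_mem_graded _ (hF j)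
      have h4 := SetLike.mul_mem_graded ha h3
      have e : l • d + (l * N) • d = l * ((N + 1) * d) := by simp only [smul_eq_mul]; ring
      rw [e] at h4
      exact h4
    obtain ⟨P, hP, hP'⟩ := hC.exists_lift l ha'
    refine ⟨dpHom (Fin (n + 1)) A j P, (appLE_dpHom_of_mem hd hF hr h j hP).trans ?_⟩
    refine congrArg (Proj.awayToSection (CohB1.polyGrading m A) (F j)).hom ?_
    apply HomogeneousLocalization.val_injective
    rw [Away.val_mk, Away.val_mk, Localization.mk_eq_mk_iff, Localization.r_iff_exists]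
    refine ⟨1, ?_⟩
    simp only [hP', Submonoid.coe_one, one_mul]
    ring
  intro z
  obtain ⟨w, hw⟩ := h1 ((CohB1.ProjSpace m A).presheaf.map (homOfLE hpre.ge).op z)
  refine ⟨w, ?_⟩
  have h3 : Function.Injective ((CohB1.ProjSpace m A).presheaf.map (homOfLE hpre.ge).op) := by
    have : IsIso (homOfLE hpre.ge) := ⟨homOfLE hpre.le, rfl, rfl⟩
    have : IsIso ((CohB1.ProjSpace m A).presheaf.map (homOfLE hpre.ge).op) := inferInstance
    exact (ConcreteCategory.bijective_of_isIso _).1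
  apply h3
  exact hw

include hd hr h in
theorem isClosedImmersion {N : ℕ} (hN : 1 ≤ N) (hC : Cond F d N) : IsClosedImmersion r := by
  have hcov : ⨆ i, ((⟨Dp (Fin (n + 1)) A i, Proj.isAffineOpen_basicOpen (CohB1.polyGrading n A) _
      (MvPolynomial.isHomogeneous_X A i) one_pos⟩ : (CohB1.ProjSpace n A).affineOpens) :
      (CohB1.ProjSpace n A).Opens) = ⊤ := CoordData.iSup_basicOpen_X (Fin (n + 1)) A
  refine (HasAffineProperty.iff_of_iSup_eq_top (P := @IsClosedImmersion) _ hcov).2 fun i => ?_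
  refine ⟨?_, appTop_surjective _ _ (app_surjective hd hF hr h hN hC i)⟩
  have h1 : IsAffineOpen (r ⁻¹ᵁ Dp (Fin (n + 1)) A i) := by
    rw [preimage_Dp hF h]
    exact Proj.isAffineOpen_basicOpen (CohB1.polyGrading m A) _ (hF i) hd
  exact h1

include hd hF hr h in
/-- The pullback of a fraction `P / X_j^e` with `P(F) = 0` vanishes. -/
theorem app_eq_zero {e : ℕ} (P : RForm n A e) (h0 : MvPolynomial.aeval (R := A) F P.1 = 0) (j : Fin (n + 1)) :
    r.app (Dp (Fin (n + 1)) A j) (rdehom P j) = 0 := by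
  have h1 := appLE_dpHom_of_mem hd hF hr h j (l := e) (P := P.1) P.2
  have h2 : Function.Injective ((CohB1.ProjSpace m A).presheaf.map
      (homOfLE (preimage_Dp hF h j).ge).op) := by
    have : IsIso (homOfLE (preimage_Dp hF h j).ge) := ⟨homOfLE (preimage_Dp hF h j).le, rfl, rfl⟩
    have : IsIso ((CohB1.ProjSpace m A).presheaf.map (homOfLE (preimage_Dp hF h j).ge).op) := inferInstance
    exact (ConcreteCategory.bijective_of_isIso _).1
  apply h2
  rw [map_zero]
  have h3 : dpHom (Fin (n + 1)) A j P.1 = rdehom P j :=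
    (RingHom.congr_fun (ProjStd.hom_std (Fin (n + 1)) A j) P.1).trans
      (congrArg (Proj.awayToSection (MvPolynomial.homogeneousSubmodule (Fin (n + 1)) A) (MvPolynomial.X j)).hom
        (ProjStd.deh_of_isHomogeneous (Fin (n + 1)) A j (n := e) P.1
          (by rw [smul_eq_mul, mul_one]; exact P.2)))
  rw [← h3]
  refine h1.trans ?_
  refine (congrArg (Proj.awayToSection (CohB1.polyGrading m A) (F j)).hom (?_ : (_ : Away (CohB1.polyGrading m A) (F j)) = 0)).trans (map_zero _)
  apply HomogeneousLocalization.val_injective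
  rw [Away.val_mk, HomogeneousLocalization.val_zero, h0]
  exact Localization.mk_zero _

end closed

section bc

variable {A B C : Type u} [CommRing A] [CommRing B] [CommRing C] (σ : B →+* A) (μ : A →+* C) {m n d : ℕ}
  {F : Fin (n + 1) → MvPolynomial (Fin (m + 1)) A}
  (hF : ∀ j, F j ∈ CohB1.polyGrading m A d)
  {r : CohB1.ProjSpace m A ⟶ CohB1.ProjSpace n A}
  (h : GivenBy r (Twist.twistProjSpace m A (d : ℤ)) (fun j => gl ⟨F j, hF j⟩))

include h in
theorem comp_preimage (i : Fin (n + 1)) :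
    (pmap μ m ≫ r ≫ pmap σ n) ⁻¹ᵁ Dp (Fin (n + 1)) B i =
      Proj.basicOpen (CohB1.polyGrading m C) (mapF μ ⟨F i, hF i⟩).1 := by
  rw [Scheme.Hom.comp_preimage, Scheme.Hom.comp_preimage]
  have h1 : pmap σ n ⁻¹ᵁ Dp (Fin (n + 1)) B i = Dp (Fin (n + 1)) A i := preimage_chart σ i
  rw [h1, preimage_Dp hF h]
  exact pmap_preimage μ (F i)

include h in
/-- The base change of a morphism given by forms is given by the base changed forms. -/
theorem givenBy_pmap : GivenBy (pmap μ m ≫ r ≫ pmap σ n) (Twist.twistProjSpace m C (d : ℤ))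
    (fun j => gl (mapF μ ⟨F j, hF j⟩)) := by
  refine givenBy_of_ratio _ _ _ (fun i => isGen_gl _ (comp_preimage σ μ hF h i).le) fun i j => ?_
  have h1 := congrArg (res (Twist.twistProjSpace m C (d : ℤ)) (comp_preimage σ μ hF h i).le)
    (res_gl (mapF μ ⟨F i, hF i⟩) (mapF μ ⟨F j, hF j⟩))
  rw [res_res, res_smul, res_res] at h1
  refine h1.trans ?_
  congr 1
  have h2 := appLE_quot μ ⟨F i, hF i⟩ ⟨F j, hF j⟩
  have h3 := appLE_ratio hF h i j
  have h4 := K387.FormProj.appLE_ratio σ (n := n) i j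
  have e1 := Scheme.Hom.appLE_comp_appLE r (pmap σ n) (Dp (Fin (n + 1)) B i)
    (Dp (Fin (n + 1)) A i) (Proj.basicOpen (CohB1.polyGrading m A) (F i)) (preimage_chart σ i).ge
    (preimage_Dp hF h i).ge
  have hle : Proj.basicOpen (CohB1.polyGrading m A) (F i) ≤
      (r ≫ pmap σ n) ⁻¹ᵁ Dp (Fin (n + 1)) B i := by
    rw [Scheme.Hom.comp_preimage]
    have h1 : pmap σ n ⁻¹ᵁ Dp (Fin (n + 1)) B i = Dp (Fin (n + 1)) A i := preimage_chart σ i
    rw [h1, preimage_Dp hF h]
  have e2 := Scheme.Hom.appLE_comp_appLE (pmap μ m) (r ≫ pmap σ n) (Dp (Fin (n + 1)) B i)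
    (Proj.basicOpen (CohB1.polyGrading m A) (F i))
    (Proj.basicOpen (CohB1.polyGrading m C) (mapF μ ⟨F i, hF i⟩).1) hle (pmap_preimage μ (F i)).ge
  have e3 := Scheme.Hom.appLE_map (pmap μ m ≫ r ≫ pmap σ n)
    (comp_preimage σ μ hF h i).ge (homOfLE (comp_preimage σ μ hF h i).le).op
  have h5 := congrArg (fun q : Γ(CohB1.ProjSpace n B, Dp (Fin (n + 1)) B i) ⟶
    Γ(CohB1.ProjSpace m C, (pmap μ m ≫ r ≫ pmap σ n) ⁻¹ᵁ Dp (Fin (n + 1)) B i) =>
      q (ProjStd.ratio (Fin (n + 1)) B i j)) e3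
  refine Eq.trans ?_ h5
  refine congrArg (ores (comp_preimage σ μ hF h i).le) ?_
  refine h2.symm.trans ?_
  have h6 := congrArg (fun q : Γ(CohB1.ProjSpace n B, Dp (Fin (n + 1)) B i) ⟶
    Γ(CohB1.ProjSpace m C, Proj.basicOpen (CohB1.polyGrading m C) (mapF μ ⟨F i, hF i⟩).1) =>
      q (ProjStd.ratio (Fin (n + 1)) B i j)) e2
  refine Eq.trans ?_ h6
  refine congrArg ((pmap μ m).appLE (Proj.basicOpen (CohB1.polyGrading m A) (F i))
    (Proj.basicOpen (CohB1.polyGrading m C) (mapF μ ⟨F i, hF i⟩).1) (pmap_preimage μ (F i)).ge) ?_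
  have h7 := congrArg (fun q : Γ(CohB1.ProjSpace n B, Dp (Fin (n + 1)) B i) ⟶
    Γ(CohB1.ProjSpace m A, Proj.basicOpen (CohB1.polyGrading m A) (F i)) =>
      q (ProjStd.ratio (Fin (n + 1)) B i j)) e1
  refine Eq.trans ?_ h7
  refine h3.symm.trans ?_
  exact congrArg _ h4.symm

end bc

section ex

variable {A : Type u} [CommRing A] {m n d : ℕ} {F : Fin (n + 1) → MvPolynomial (Fin (m + 1)) A}
  (hF : ∀ j, F j ∈ CohB1.polyGrading m A d)

/-- If the forms have no common zero, they define a morphism. -/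
theorem exists_map_of_cover (hcov : ⨆ j, Proj.basicOpen (CohB1.polyGrading m A) (F j) = ⊤) :
    ∃ r : CohB1.ProjSpace m A ⟶ CohB1.ProjSpace n A,
      r ≫ CohB1.ProjSpace.toSpec n A = CohB1.ProjSpace.toSpec m A ∧
      GivenBy r (Twist.twistProjSpace m A (d : ℤ)) (fun j => gl ⟨F j, hF j⟩) := by
  refine exists_givenBy (CohB1.ProjSpace.toSpec m A) _ ?_
  exact Eq.trans (iSup_congr fun j => genLocus_gl ⟨F j, hF j⟩) hcov

theorem span_pow_le (N : ℕ) (hN : 1 ≤ N) : (Submodule.span A (Set.range F)) ^ N ≤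
    (Ideal.span (Set.range F)).restrictScalars A := by
  obtain ⟨N, rfl⟩ : ∃ N', N = N' + 1 := ⟨N - 1, by omega⟩
  rw [pow_succ, Submodule.mul_le]
  intro a _ b hb
  refine Ideal.mul_mem_left _ _ ?_
  have h1 : Submodule.span A (Set.range F) ≤ (Ideal.span (Set.range F)).restrictScalars A :=
    Submodule.span_le.mpr Ideal.subset_span
  exact h1 hb

theorem cover_of_cond {N : ℕ} (hN : 1 ≤ N) (hC : Cond F d N) :
    ⨆ j, Proj.basicOpen (CohB1.polyGrading m A) (F j) = ⊤ := by
  rw [eq_top_iff]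
  intro x _
  by_contra hx
  have hx' : ∀ j, F j ∈ (x : ProjectiveSpectrum (CohB1.polyGrading m A)).asHomogeneousIdeal.toIdeal := by
    intro j
    by_contra h1
    exact hx (Opens.mem_iSup.mpr ⟨j, h1⟩)
  obtain ⟨i, hi⟩ := VeryAmpleAmple.exists_notMem_X (x : ProjectiveSpectrum (CohB1.polyGrading m A))
  apply hi
  have h1 : (MvPolynomial.X i ^ (N * d) : MvPolynomial (Fin (m + 1)) A) ∈ Ideal.span (Set.range F) :=
    span_pow_le N hN (hC (X_pow_mem i (N * d)))
  have h2 : Ideal.span (Set.range F) ≤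
      (x : ProjectiveSpectrum (CohB1.polyGrading m A)).asHomogeneousIdeal.toIdeal := by
    rw [Ideal.span_le]
    rintro _ ⟨j, rfl⟩
    exact hx' j
  exact (x : ProjectiveSpectrum (CohB1.polyGrading m A)).isPrime.mem_of_pow_mem _ (h2 h1)

theorem exists_map {N : ℕ} (hN : 1 ≤ N) (hC : Cond F d N) :
    ∃ r : CohB1.ProjSpace m A ⟶ CohB1.ProjSpace n A,
      r ≫ CohB1.ProjSpace.toSpec n A = CohB1.ProjSpace.toSpec m A ∧
      GivenBy r (Twist.twistProjSpace m A (d : ℤ)) (fun j => gl ⟨F j, hF j⟩) :=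
  exists_map_of_cover hF (cover_of_cond hN hC)

end ex

end K459.FormMap
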